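import Mathlib
import Cfsg.Agent.Lib.Helper56.TC
import Cfsg.Agent.Lib.Helper56.MYU8.C0
import Cfsg.Agent.Lib.Helper56.MYU8.C1
import Cfsg.Agent.Lib.Helper56.MYU8.C2
import Cfsg.Agent.Lib.Helper56.MYU8.C3
import Cfsg.Agent.Lib.Helper56.MYU8.C4
import Cfsg.Agent.Lib.Helper56.MYU8.C5
import Cfsg.Agent.Lib.Helper56.MYU8.C6
import Cfsg.Agent.Lib.Helper56.MYU8.C7
import Cfsg.Agent.Lib.Helper56.MYU8.C8
import Cfsg.Agent.Lib.Helper56.MYU8.C9
import Cfsg.Agent.Lib.Helper56.MYU8.C10
import Cfsg.Agent.Lib.Helper56.MYU8.C11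
import Cfsg.Agent.Lib.Helper56.MYU8.C12
import Cfsg.Agent.Lib.Helper56.MYU8.C13
import Cfsg.Agent.Lib.Helper56.MYU8.C14
import Cfsg.Agent.Lib.Helper56.MYU8.C15
import Cfsg.Agent.Lib.Helper56.MYU8.C16
import Cfsg.Agent.Lib.Helper56.MYU8.C17
import Cfsg.Agent.Lib.Helper56.MYU8.C18
set_option autoImplicit false
set_option maxRecDepth 1000000

namespace Cfsg.Agent.Lib.Helper56.MYU8

open Cfsg.Agent.Lib.Helper56.TC Cfsg.Agent.Lib.Helper56.TC.Tabs

theorem uN_514 : Upto T.chkName 514 := upto_add (upto_zero T.chkName) rfl cN_0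
theorem uN_1033 : Upto T.chkName 1033 := upto_add uN_514 rfl cN_514
theorem uN_1556 : Upto T.chkName 1556 := upto_add uN_1033 rfl cN_1033
theorem uN_2080 : Upto T.chkName 2080 := upto_add uN_1556 rfl cN_1556
theorem uN_2604 : Upto T.chkName 2604 := upto_add uN_2080 rfl cN_2080
theorem uN_3127 : Upto T.chkName 3127 := upto_add uN_2604 rfl cN_2604
theorem uN_3651 : Upto T.chkName 3651 := upto_add uN_3127 rfl cN_3127
theorem uN_4177 : Upto T.chkName 4177 := upto_add uN_3651 rfl cN_3651
theorem uN_4699 : Upto T.chkName 4699 := upto_add uN_4177 rfl cN_4177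
theorem uN_5227 : Upto T.chkName 5227 := upto_add uN_4699 rfl cN_4699
theorem uN_5746 : Upto T.chkName 5746 := upto_add uN_5227 rfl cN_5227
theorem uN_6272 : Upto T.chkName 6272 := upto_add uN_5746 rfl cN_5746
theorem uN_6797 : Upto T.chkName 6797 := upto_add uN_6272 rfl cN_6272
theorem uN_7319 : Upto T.chkName 7319 := upto_add uN_6797 rfl cN_6797
theorem uN_7847 : Upto T.chkName 7847 := upto_add uN_7319 rfl cN_7319
theorem uN_8367 : Upto T.chkName 8367 := upto_add uN_7847 rfl cN_7847
theorem uN_8890 : Upto T.chkName 8890 := upto_add uN_8367 rfl cN_8367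
theorem uN_9417 : Upto T.chkName 9417 := upto_add uN_8890 rfl cN_8890
theorem uN_9941 : Upto T.chkName 9941 := upto_add uN_9417 rfl cN_9417
theorem uN_10463 : Upto T.chkName 10463 := upto_add uN_9941 rfl cN_9941
theorem uN_10987 : Upto T.chkName 10987 := upto_add uN_10463 rfl cN_10463
theorem uN_11517 : Upto T.chkName 11517 := upto_add uN_10987 rfl cN_10987
theorem uN_12036 : Upto T.chkName 12036 := upto_add uN_11517 rfl cN_11517
theorem uN_12562 : Upto T.chkName 12562 := upto_add uN_12036 rfl cN_12036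
theorem uN_13085 : Upto T.chkName 13085 := upto_add uN_12562 rfl cN_12562
theorem uN_13613 : Upto T.chkName 13613 := upto_add uN_13085 rfl cN_13085
theorem uN_14134 : Upto T.chkName 14134 := upto_add uN_13613 rfl cN_13613
theorem uN_14661 : Upto T.chkName 14661 := upto_add uN_14134 rfl cN_14134
theorem uN_15184 : Upto T.chkName 15184 := upto_add uN_14661 rfl cN_14661
theorem uN_15712 : Upto T.chkName 15712 := upto_add uN_15184 rfl cN_15184
theorem uN_16234 : Upto T.chkName 16234 := upto_add uN_15712 rfl cN_15712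
theorem uN_16763 : Upto T.chkName 16763 := upto_add uN_16234 rfl cN_16234
theorem uN_17289 : Upto T.chkName 17289 := upto_add uN_16763 rfl cN_16763
theorem uN_17818 : Upto T.chkName 17818 := upto_add uN_17289 rfl cN_17289
theorem uN_18344 : Upto T.chkName 18344 := upto_add uN_17818 rfl cN_17818
theorem uN_18872 : Upto T.chkName 18872 := upto_add uN_18344 rfl cN_18344
theorem uN_19399 : Upto T.chkName 19399 := upto_add uN_18872 rfl cN_18872
theorem uN_19926 : Upto T.chkName 19926 := upto_add uN_19399 rfl cN_19399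
theorem uN_20458 : Upto T.chkName 20458 := upto_add uN_19926 rfl cN_19926
theorem uN_20987 : Upto T.chkName 20987 := upto_add uN_20458 rfl cN_20458
theorem uN_21504 : Upto T.chkName 21504 := upto_add uN_20987 rfl cN_20987
theorem uN_22040 : Upto T.chkName 22040 := upto_add uN_21504 rfl cN_21504
theorem uN_22546 : Upto T.chkName 22546 := upto_add uN_22040 rfl cN_22040
theorem uN_23073 : Upto T.chkName 23073 := upto_add uN_22546 rfl cN_22546
theorem uN_23602 : Upto T.chkName 23602 := upto_add uN_23073 rfl cN_23073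
theorem uN_24126 : Upto T.chkName 24126 := upto_add uN_23602 rfl cN_23602
theorem uN_24661 : Upto T.chkName 24661 := upto_add uN_24126 rfl cN_24126
theorem uN_25180 : Upto T.chkName 25180 := upto_add uN_24661 rfl cN_24661
theorem uN_25717 : Upto T.chkName 25717 := upto_add uN_25180 rfl cN_25180
theorem uN_26241 : Upto T.chkName 26241 := upto_add uN_25717 rfl cN_25717
theorem uN_26776 : Upto T.chkName 26776 := upto_add uN_26241 rfl cN_26241
theorem uN_27304 : Upto T.chkName 27304 := upto_add uN_26776 rfl cN_26776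
theorem uN_27833 : Upto T.chkName 27833 := upto_add uN_27304 rfl cN_27304
theorem uN_28360 : Upto T.chkName 28360 := upto_add uN_27833 rfl cN_27833
theorem uN_28975 : Upto T.chkName 28975 := upto_add uN_28360 rfl cN_28360
theorem uN_29604 : Upto T.chkName 29604 := upto_add uN_28975 rfl cN_28975
theorem uN_30236 : Upto T.chkName 30236 := upto_add uN_29604 rfl cN_29604
theorem uN_30870 : Upto T.chkName 30870 := upto_add uN_30236 rfl cN_30236
theorem uN_31500 : Upto T.chkName 31500 := upto_add uN_30870 rfl cN_30870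
theorem uN_32142 : Upto T.chkName 32142 := upto_add uN_31500 rfl cN_31500
theorem uN_32769 : Upto T.chkName 32769 := upto_add uN_32142 rfl cN_32142
theorem uN_33418 : Upto T.chkName 33418 := upto_add uN_32769 rfl cN_32769
theorem uN_34046 : Upto T.chkName 34046 := upto_add uN_33418 rfl cN_33418
theorem uN_34689 : Upto T.chkName 34689 := upto_add uN_34046 rfl cN_34046
theorem uN_35331 : Upto T.chkName 35331 := upto_add uN_34689 rfl cN_34689
theorem uN_35966 : Upto T.chkName 35966 := upto_add uN_35331 rfl cN_35331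
theorem uN_36594 : Upto T.chkName 36594 := upto_add uN_35966 rfl cN_35966
theorem uN_37248 : Upto T.chkName 37248 := upto_add uN_36594 rfl cN_36594
theorem uN_37880 : Upto T.chkName 37880 := upto_add uN_37248 rfl cN_37248
theorem uN_38518 : Upto T.chkName 38518 := upto_add uN_37880 rfl cN_37880
theorem uN_39149 : Upto T.chkName 39149 := upto_add uN_38518 rfl cN_38518
theorem uN_39808 : Upto T.chkName 39808 := upto_add uN_39149 rfl cN_39149
theorem uN_40446 : Upto T.chkName 40446 := upto_add uN_39808 rfl cN_39808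
theorem uN_41075 : Upto T.chkName 41075 := upto_add uN_40446 rfl cN_40446
theorem uN_41719 : Upto T.chkName 41719 := upto_add uN_41075 rfl cN_41075
theorem uN_42352 : Upto T.chkName 42352 := upto_add uN_41719 rfl cN_41719
theorem uN_43006 : Upto T.chkName 43006 := upto_add uN_42352 rfl cN_42352
theorem uN_43652 : Upto T.chkName 43652 := upto_add uN_43006 rfl cN_43006
theorem uN_44287 : Upto T.chkName 44287 := upto_add uN_43652 rfl cN_43652
theorem uN_44925 : Upto T.chkName 44925 := upto_add uN_44287 rfl cN_44287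
theorem uN_45566 : Upto T.chkName 45566 := upto_add uN_44925 rfl cN_44925
theorem uN_46211 : Upto T.chkName 46211 := upto_add uN_45566 rfl cN_45566
theorem uN_46852 : Upto T.chkName 46852 := upto_add uN_46211 rfl cN_46211
theorem uN_47512 : Upto T.chkName 47512 := upto_add uN_46852 rfl cN_46852
theorem uN_48156 : Upto T.chkName 48156 := upto_add uN_47512 rfl cN_47512
theorem uN_48794 : Upto T.chkName 48794 := upto_add uN_48156 rfl cN_48156
theorem uN_49432 : Upto T.chkName 49432 := upto_add uN_48794 rfl cN_48794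
theorem uN_50077 : Upto T.chkName 50077 := upto_add uN_49432 rfl cN_49432
theorem uN_50729 : Upto T.chkName 50729 := upto_add uN_50077 rfl cN_50077
theorem uN_51382 : Upto T.chkName 51382 := upto_add uN_50729 rfl cN_50729
theorem uN_52033 : Upto T.chkName 52033 := upto_add uN_51382 rfl cN_51382
theorem uN_52691 : Upto T.chkName 52691 := upto_add uN_52033 rfl cN_52033
theorem uN_53340 : Upto T.chkName 53340 := upto_add uN_52691 rfl cN_52691
theorem uN_53990 : Upto T.chkName 53990 := upto_add uN_53340 rfl cN_53340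
theorem uN_54639 : Upto T.chkName 54639 := upto_add uN_53990 rfl cN_53990
theorem uN_55284 : Upto T.chkName 55284 := upto_add uN_54639 rfl cN_54639
theorem uN_55935 : Upto T.chkName 55935 := upto_add uN_55284 rfl cN_55284
theorem uN_56591 : Upto T.chkName 56591 := upto_add uN_55935 rfl cN_55935
theorem uN_57244 : Upto T.chkName 57244 := upto_add uN_56591 rfl cN_56591
theorem uN_57896 : Upto T.chkName 57896 := upto_add uN_57244 rfl cN_57244
theorem uN_58555 : Upto T.chkName 58555 := upto_add uN_57896 rfl cN_57896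
theorem uN_59209 : Upto T.chkName 59209 := upto_add uN_58555 rfl cN_58555
theorem uN_59860 : Upto T.chkName 59860 := upto_add uN_59209 rfl cN_59209
theorem uN_60516 : Upto T.chkName 60516 := upto_add uN_59860 rfl cN_59860
theorem uN_61181 : Upto T.chkName 61181 := upto_add uN_60516 rfl cN_60516
theorem uN_61867 : Upto T.chkName 61867 := upto_add uN_61181 rfl cN_61181
theorem uN_62558 : Upto T.chkName 62558 := upto_add uN_61867 rfl cN_61867
theorem uN_63243 : Upto T.chkName 63243 := upto_add uN_62558 rfl cN_62558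
theorem uN_63944 : Upto T.chkName 63944 := upto_add uN_63243 rfl cN_63243
theorem uN_64639 : Upto T.chkName 64639 := upto_add uN_63944 rfl cN_63944
theorem uN_65332 : Upto T.chkName 65332 := upto_add uN_64639 rfl cN_64639
theorem uN_65771 : Upto T.chkName 65771 := upto_add uN_65332 rfl cN_65332
theorem uV_268 : Upto T.chkV 268 := upto_add (upto_zero T.chkV) rfl cV_0
theorem uV_536 : Upto T.chkV 536 := upto_add uV_268 rfl cV_268
theorem uV_804 : Upto T.chkV 804 := upto_add uV_536 rfl cV_536
theorem uV_1072 : Upto T.chkV 1072 := upto_add uV_804 rfl cV_804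
theorem uV_1340 : Upto T.chkV 1340 := upto_add uV_1072 rfl cV_1072
theorem uV_1608 : Upto T.chkV 1608 := upto_add uV_1340 rfl cV_1340
theorem uV_1876 : Upto T.chkV 1876 := upto_add uV_1608 rfl cV_1608
theorem uV_2144 : Upto T.chkV 2144 := upto_add uV_1876 rfl cV_1876
theorem uV_2412 : Upto T.chkV 2412 := upto_add uV_2144 rfl cV_2144
theorem uV_2680 : Upto T.chkV 2680 := upto_add uV_2412 rfl cV_2412
theorem uV_2948 : Upto T.chkV 2948 := upto_add uV_2680 rfl cV_2680
theorem uV_3216 : Upto T.chkV 3216 := upto_add uV_2948 rfl cV_2948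
theorem uV_3484 : Upto T.chkV 3484 := upto_add uV_3216 rfl cV_3216
theorem uV_3752 : Upto T.chkV 3752 := upto_add uV_3484 rfl cV_3484
theorem uV_4020 : Upto T.chkV 4020 := upto_add uV_3752 rfl cV_3752
theorem uV_4288 : Upto T.chkV 4288 := upto_add uV_4020 rfl cV_4020
theorem uV_4556 : Upto T.chkV 4556 := upto_add uV_4288 rfl cV_4288
theorem uV_4824 : Upto T.chkV 4824 := upto_add uV_4556 rfl cV_4556
theorem uV_5092 : Upto T.chkV 5092 := upto_add uV_4824 rfl cV_4824
theorem uV_5360 : Upto T.chkV 5360 := upto_add uV_5092 rfl cV_5092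
theorem uV_5628 : Upto T.chkV 5628 := upto_add uV_5360 rfl cV_5360
theorem uV_5896 : Upto T.chkV 5896 := upto_add uV_5628 rfl cV_5628
theorem uV_6164 : Upto T.chkV 6164 := upto_add uV_5896 rfl cV_5896
theorem uV_6432 : Upto T.chkV 6432 := upto_add uV_6164 rfl cV_6164
theorem uV_6700 : Upto T.chkV 6700 := upto_add uV_6432 rfl cV_6432
theorem uV_6968 : Upto T.chkV 6968 := upto_add uV_6700 rfl cV_6700
theorem uV_7236 : Upto T.chkV 7236 := upto_add uV_6968 rfl cV_6968
theorem uV_7504 : Upto T.chkV 7504 := upto_add uV_7236 rfl cV_7236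
theorem uV_7772 : Upto T.chkV 7772 := upto_add uV_7504 rfl cV_7504
theorem uV_8040 : Upto T.chkV 8040 := upto_add uV_7772 rfl cV_7772
theorem uV_8308 : Upto T.chkV 8308 := upto_add uV_8040 rfl cV_8040
theorem uV_8576 : Upto T.chkV 8576 := upto_add uV_8308 rfl cV_8308
theorem uV_8844 : Upto T.chkV 8844 := upto_add uV_8576 rfl cV_8576
theorem uV_9112 : Upto T.chkV 9112 := upto_add uV_8844 rfl cV_8844
theorem uV_9380 : Upto T.chkV 9380 := upto_add uV_9112 rfl cV_9112
theorem uV_9648 : Upto T.chkV 9648 := upto_add uV_9380 rfl cV_9380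
theorem uV_9916 : Upto T.chkV 9916 := upto_add uV_9648 rfl cV_9648
theorem uV_10184 : Upto T.chkV 10184 := upto_add uV_9916 rfl cV_9916
theorem uV_10452 : Upto T.chkV 10452 := upto_add uV_10184 rfl cV_10184
theorem uV_10720 : Upto T.chkV 10720 := upto_add uV_10452 rfl cV_10452
theorem uV_10988 : Upto T.chkV 10988 := upto_add uV_10720 rfl cV_10720
theorem uV_11256 : Upto T.chkV 11256 := upto_add uV_10988 rfl cV_10988
theorem uV_11524 : Upto T.chkV 11524 := upto_add uV_11256 rfl cV_11256
theorem uV_11792 : Upto T.chkV 11792 := upto_add uV_11524 rfl cV_11524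
theorem uV_12060 : Upto T.chkV 12060 := upto_add uV_11792 rfl cV_11792
theorem uV_12328 : Upto T.chkV 12328 := upto_add uV_12060 rfl cV_12060
theorem uV_12596 : Upto T.chkV 12596 := upto_add uV_12328 rfl cV_12328
theorem uV_12864 : Upto T.chkV 12864 := upto_add uV_12596 rfl cV_12596
theorem uV_13132 : Upto T.chkV 13132 := upto_add uV_12864 rfl cV_12864
theorem uV_13400 : Upto T.chkV 13400 := upto_add uV_13132 rfl cV_13132
theorem uV_13668 : Upto T.chkV 13668 := upto_add uV_13400 rfl cV_13400
theorem uV_13936 : Upto T.chkV 13936 := upto_add uV_13668 rfl cV_13668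
theorem uV_14204 : Upto T.chkV 14204 := upto_add uV_13936 rfl cV_13936
theorem uV_14472 : Upto T.chkV 14472 := upto_add uV_14204 rfl cV_14204
theorem uV_14740 : Upto T.chkV 14740 := upto_add uV_14472 rfl cV_14472
theorem uV_15008 : Upto T.chkV 15008 := upto_add uV_14740 rfl cV_14740
theorem uV_15276 : Upto T.chkV 15276 := upto_add uV_15008 rfl cV_15008
theorem uV_15544 : Upto T.chkV 15544 := upto_add uV_15276 rfl cV_15276
theorem uV_15812 : Upto T.chkV 15812 := upto_add uV_15544 rfl cV_15544
theorem uV_16080 : Upto T.chkV 16080 := upto_add uV_15812 rfl cV_15812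
theorem uV_16348 : Upto T.chkV 16348 := upto_add uV_16080 rfl cV_16080
theorem uV_16616 : Upto T.chkV 16616 := upto_add uV_16348 rfl cV_16348
theorem uV_16884 : Upto T.chkV 16884 := upto_add uV_16616 rfl cV_16616
theorem uV_17152 : Upto T.chkV 17152 := upto_add uV_16884 rfl cV_16884
theorem uV_17420 : Upto T.chkV 17420 := upto_add uV_17152 rfl cV_17152
theorem uV_17688 : Upto T.chkV 17688 := upto_add uV_17420 rfl cV_17420
theorem uV_17956 : Upto T.chkV 17956 := upto_add uV_17688 rfl cV_17688
theorem uV_18224 : Upto T.chkV 18224 := upto_add uV_17956 rfl cV_17956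
theorem uV_18492 : Upto T.chkV 18492 := upto_add uV_18224 rfl cV_18224
theorem uV_18760 : Upto T.chkV 18760 := upto_add uV_18492 rfl cV_18492
theorem uV_19028 : Upto T.chkV 19028 := upto_add uV_18760 rfl cV_18760
theorem uV_19296 : Upto T.chkV 19296 := upto_add uV_19028 rfl cV_19028
theorem uV_19564 : Upto T.chkV 19564 := upto_add uV_19296 rfl cV_19296
theorem uV_19832 : Upto T.chkV 19832 := upto_add uV_19564 rfl cV_19564
theorem uV_20100 : Upto T.chkV 20100 := upto_add uV_19832 rfl cV_19832
theorem uV_20368 : Upto T.chkV 20368 := upto_add uV_20100 rfl cV_20100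
theorem uV_20636 : Upto T.chkV 20636 := upto_add uV_20368 rfl cV_20368
theorem uV_20904 : Upto T.chkV 20904 := upto_add uV_20636 rfl cV_20636
theorem uV_21172 : Upto T.chkV 21172 := upto_add uV_20904 rfl cV_20904
theorem uV_21440 : Upto T.chkV 21440 := upto_add uV_21172 rfl cV_21172
theorem uV_21708 : Upto T.chkV 21708 := upto_add uV_21440 rfl cV_21440
theorem uV_21976 : Upto T.chkV 21976 := upto_add uV_21708 rfl cV_21708
theorem uV_22244 : Upto T.chkV 22244 := upto_add uV_21976 rfl cV_21976
theorem uV_22512 : Upto T.chkV 22512 := upto_add uV_22244 rfl cV_22244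
theorem uV_22780 : Upto T.chkV 22780 := upto_add uV_22512 rfl cV_22512
theorem uV_23048 : Upto T.chkV 23048 := upto_add uV_22780 rfl cV_22780
theorem uV_23316 : Upto T.chkV 23316 := upto_add uV_23048 rfl cV_23048
theorem uV_23584 : Upto T.chkV 23584 := upto_add uV_23316 rfl cV_23316
theorem uV_23852 : Upto T.chkV 23852 := upto_add uV_23584 rfl cV_23584
theorem uV_24120 : Upto T.chkV 24120 := upto_add uV_23852 rfl cV_23852
theorem uV_24388 : Upto T.chkV 24388 := upto_add uV_24120 rfl cV_24120
theorem uV_24656 : Upto T.chkV 24656 := upto_add uV_24388 rfl cV_24388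
theorem uV_24924 : Upto T.chkV 24924 := upto_add uV_24656 rfl cV_24656
theorem uV_25192 : Upto T.chkV 25192 := upto_add uV_24924 rfl cV_24924
theorem uV_25460 : Upto T.chkV 25460 := upto_add uV_25192 rfl cV_25192
theorem uV_25728 : Upto T.chkV 25728 := upto_add uV_25460 rfl cV_25460
theorem uV_25996 : Upto T.chkV 25996 := upto_add uV_25728 rfl cV_25728
theorem uV_26264 : Upto T.chkV 26264 := upto_add uV_25996 rfl cV_25996
theorem uV_26532 : Upto T.chkV 26532 := upto_add uV_26264 rfl cV_26264
theorem uV_26800 : Upto T.chkV 26800 := upto_add uV_26532 rfl cV_26532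
theorem uV_27068 : Upto T.chkV 27068 := upto_add uV_26800 rfl cV_26800
theorem uV_27336 : Upto T.chkV 27336 := upto_add uV_27068 rfl cV_27068
theorem uV_27604 : Upto T.chkV 27604 := upto_add uV_27336 rfl cV_27336
theorem uV_27872 : Upto T.chkV 27872 := upto_add uV_27604 rfl cV_27604
theorem uV_28140 : Upto T.chkV 28140 := upto_add uV_27872 rfl cV_27872
theorem uV_28408 : Upto T.chkV 28408 := upto_add uV_28140 rfl cV_28140
theorem uV_28431 : Upto T.chkV 28431 := upto_add uV_28408 rfl cV_28408

/-- The certificate is valid. -/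
theorem cert : T.Cert where
  h0 := by decide +kernel
  hrx := by decide +kernel
  hs0 := by decide +kernel
  hname := uN_65771
  hV := uV_28431

theorem orep_0 : T.orep 0 < T.N ∧ T.ol (T.orep 0) = 0 := by decide +kernel
theorem cnt_0 : countLt (fun v => Nat.beq (T.ol v) 0) T.N = 1 := by decide +kernel
theorem orep_1 : T.orep 1 < T.N ∧ T.ol (T.orep 1) = 1 := by decide +kernel
theorem cnt_1 : countLt (fun v => Nat.beq (T.ol v) 1) T.N = 960 := by decide +kernel
theorem orep_2 : T.orep 2 < T.N ∧ T.ol (T.orep 2) = 2 := by decide +kernel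
theorem cnt_2 : countLt (fun v => Nat.beq (T.ol v) 2) T.N = 3150 := by decide +kernel
theorem orep_3 : T.orep 3 < T.N ∧ T.ol (T.orep 3) = 3 := by decide +kernel
theorem cnt_3 : countLt (fun v => Nat.beq (T.ol v) 3) T.N = 22400 := by decide +kernel
theorem orep_4 : T.orep 4 < T.N ∧ T.ol (T.orep 4) = 4 := by decide +kernel
theorem cnt_4 : countLt (fun v => Nat.beq (T.ol v) 4) T.N = 1920 := by decide +kernel

end Cfsg.Agent.Lib.Helper56.MYU8
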